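/-
Certificate data of a coset enumeration.
-/
import Cfsg.Agent.Lib.CosetEnum.Sub
import Cfsg.Agent.Lib.CosetEnum.J3U.Data
import Cfsg.Agent.Lib.CosetEnum.J3U.Facts0
import Cfsg.Agent.Lib.CosetEnum.J3U.Facts1
import Cfsg.Agent.Lib.CosetEnum.J3U.Facts2
import Cfsg.Agent.Lib.CosetEnum.J3U.Facts3
import Cfsg.Agent.Lib.CosetEnum.J3U.Facts4
import Cfsg.Agent.Lib.CosetEnum.J3U.Facts5
import Cfsg.Agent.Lib.CosetEnum.J3U.Facts6
import Cfsg.Agent.Lib.CosetEnum.J3U.Facts7
import Cfsg.Agent.Lib.CosetEnum.J3U.Facts8
import Cfsg.Agent.Lib.CosetEnum.J3U.Facts9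
import Cfsg.Agent.Lib.CosetEnum.J3U.Facts10
import Cfsg.Agent.Lib.CosetEnum.J3U.Facts11
import Cfsg.Agent.Lib.CosetEnum.J3U.Facts12
import Cfsg.Agent.Lib.CosetEnum.J3U.Facts13
import Cfsg.Agent.Lib.CosetEnum.J3U.Facts14
import Cfsg.Agent.Lib.CosetEnum.J3U.Facts15
import Cfsg.Agent.Lib.CosetEnum.J3U.Facts16
import Cfsg.Agent.Lib.CosetEnum.J3U.Facts17
import Cfsg.Agent.Lib.CosetEnum.J3U.Facts18
import Cfsg.Agent.Lib.CosetEnum.J3U.Facts19
import Cfsg.Agent.Lib.CosetEnum.J3U.Facts20
import Cfsg.Agent.Lib.CosetEnum.J3U.Facts21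
import Cfsg.Agent.Lib.CosetEnum.J3U.Facts22
import Cfsg.Agent.Lib.CosetEnum.J3U.Facts23
import Cfsg.Agent.Lib.CosetEnum.J3U.Facts24
import Cfsg.Agent.Lib.CosetEnum.J3U.Facts25
import Cfsg.Agent.Lib.CosetEnum.J3U.Facts26
import Cfsg.Agent.Lib.CosetEnum.J3U.Facts27
import Cfsg.Agent.Lib.CosetEnum.J3U.Facts28
import Cfsg.Agent.Lib.CosetEnum.J3U.Facts29
import Cfsg.Agent.Lib.CosetEnum.J3U.Facts30
import Cfsg.Agent.Lib.CosetEnum.J3U.Facts31
import Cfsg.Agent.Lib.CosetEnum.J3U.Facts32
import Cfsg.Agent.Lib.CosetEnum.J3U.Facts33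
import Cfsg.Agent.Lib.CosetEnum.J3U.Facts34
import Cfsg.Agent.Lib.CosetEnum.J3U.Facts35
import Cfsg.Agent.Lib.CosetEnum.J3U.Facts36
import Cfsg.Agent.Lib.CosetEnum.J3U.Rows0
import Cfsg.Agent.Lib.CosetEnum.J3U.Rows1
import Cfsg.Agent.Lib.CosetEnum.J3U.Rows2
import Cfsg.Agent.Lib.CosetEnum.J3U.Rows3
import Cfsg.Agent.Lib.CosetEnum.J3U.Rows4
import Cfsg.Agent.Lib.CosetEnum.J3U.Rows5
import Cfsg.Agent.Lib.CosetEnum.J3U.Rows6
import Cfsg.Agent.Lib.CosetEnum.J3U.Rows7
import Cfsg.Agent.Lib.CosetEnum.J3U.Rows8
import Cfsg.Agent.Lib.CosetEnum.J3U.Rows9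

set_option autoImplicit false
set_option maxRecDepth 1000000

namespace CfsgLib.CosetEnum.J3U

open CfsgLib.CosetEnum

theorem holds {Ω : Type} (base : Ω) (s : ℕ → Ω → Ω) (hinv : ∀ x v, s x (s x v) = v) (hk : ∀ v, s data.k v = v)
    (hwh : ∀ w < data.nh, run s (wordOf (data.words.get w)) base = base)
    (hwr : ∀ w, data.nh ≤ w → w < data.nw → ∀ v, run s (wordOf (data.words.get w)) v = v) :
    ∀ i < 144240, data.Holds base s i := by
  have h0 : ∀ i < 0, data.Holds base s i := fun i hi => absurd hi (Nat.not_lt_zero i)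
  have h1 : ∀ i < 4000, data.Holds base s i := fun i hi =>
    Data.okChunk_sound hinv hk hwh hwr just0 0 just0_ok h0 i (by rw [just0_len]; exact hi)
  have h2 : ∀ i < 8000, data.Holds base s i := fun i hi =>
    Data.okChunk_sound hinv hk hwh hwr just1 4000 just1_ok h1 i (by rw [just1_len]; exact hi)
  have h3 : ∀ i < 12000, data.Holds base s i := fun i hi =>
    Data.okChunk_sound hinv hk hwh hwr just2 8000 just2_ok h2 i (by rw [just2_len]; exact hi)
  have h4 : ∀ i < 16000, data.Holds base s i := fun i hi =>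
    Data.okChunk_sound hinv hk hwh hwr just3 12000 just3_ok h3 i (by rw [just3_len]; exact hi)
  have h5 : ∀ i < 20000, data.Holds base s i := fun i hi =>
    Data.okChunk_sound hinv hk hwh hwr just4 16000 just4_ok h4 i (by rw [just4_len]; exact hi)
  have h6 : ∀ i < 24000, data.Holds base s i := fun i hi =>
    Data.okChunk_sound hinv hk hwh hwr just5 20000 just5_ok h5 i (by rw [just5_len]; exact hi)
  have h7 : ∀ i < 28000, data.Holds base s i := fun i hi =>
    Data.okChunk_sound hinv hk hwh hwr just6 24000 just6_ok h6 i (by rw [just6_len]; exact hi)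
  have h8 : ∀ i < 32000, data.Holds base s i := fun i hi =>
    Data.okChunk_sound hinv hk hwh hwr just7 28000 just7_ok h7 i (by rw [just7_len]; exact hi)
  have h9 : ∀ i < 36000, data.Holds base s i := fun i hi =>
    Data.okChunk_sound hinv hk hwh hwr just8 32000 just8_ok h8 i (by rw [just8_len]; exact hi)
  have h10 : ∀ i < 40000, data.Holds base s i := fun i hi =>
    Data.okChunk_sound hinv hk hwh hwr just9 36000 just9_ok h9 i (by rw [just9_len]; exact hi)
  have h11 : ∀ i < 44000, data.Holds base s i := fun i hi =>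
    Data.okChunk_sound hinv hk hwh hwr just10 40000 just10_ok h10 i (by rw [just10_len]; exact hi)
  have h12 : ∀ i < 48000, data.Holds base s i := fun i hi =>
    Data.okChunk_sound hinv hk hwh hwr just11 44000 just11_ok h11 i (by rw [just11_len]; exact hi)
  have h13 : ∀ i < 52000, data.Holds base s i := fun i hi =>
    Data.okChunk_sound hinv hk hwh hwr just12 48000 just12_ok h12 i (by rw [just12_len]; exact hi)
  have h14 : ∀ i < 56000, data.Holds base s i := fun i hi =>
    Data.okChunk_sound hinv hk hwh hwr just13 52000 just13_ok h13 i (by rw [just13_len]; exact hi)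
  have h15 : ∀ i < 60000, data.Holds base s i := fun i hi =>
    Data.okChunk_sound hinv hk hwh hwr just14 56000 just14_ok h14 i (by rw [just14_len]; exact hi)
  have h16 : ∀ i < 64000, data.Holds base s i := fun i hi =>
    Data.okChunk_sound hinv hk hwh hwr just15 60000 just15_ok h15 i (by rw [just15_len]; exact hi)
  have h17 : ∀ i < 68000, data.Holds base s i := fun i hi =>
    Data.okChunk_sound hinv hk hwh hwr just16 64000 just16_ok h16 i (by rw [just16_len]; exact hi)
  have h18 : ∀ i < 72000, data.Holds base s i := fun i hi =>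
    Data.okChunk_sound hinv hk hwh hwr just17 68000 just17_ok h17 i (by rw [just17_len]; exact hi)
  have h19 : ∀ i < 76000, data.Holds base s i := fun i hi =>
    Data.okChunk_sound hinv hk hwh hwr just18 72000 just18_ok h18 i (by rw [just18_len]; exact hi)
  have h20 : ∀ i < 80000, data.Holds base s i := fun i hi =>
    Data.okChunk_sound hinv hk hwh hwr just19 76000 just19_ok h19 i (by rw [just19_len]; exact hi)
  have h21 : ∀ i < 84000, data.Holds base s i := fun i hi =>
    Data.okChunk_sound hinv hk hwh hwr just20 80000 just20_ok h20 i (by rw [just20_len]; exact hi)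
  have h22 : ∀ i < 88000, data.Holds base s i := fun i hi =>
    Data.okChunk_sound hinv hk hwh hwr just21 84000 just21_ok h21 i (by rw [just21_len]; exact hi)
  have h23 : ∀ i < 92000, data.Holds base s i := fun i hi =>
    Data.okChunk_sound hinv hk hwh hwr just22 88000 just22_ok h22 i (by rw [just22_len]; exact hi)
  have h24 : ∀ i < 96000, data.Holds base s i := fun i hi =>
    Data.okChunk_sound hinv hk hwh hwr just23 92000 just23_ok h23 i (by rw [just23_len]; exact hi)
  have h25 : ∀ i < 100000, data.Holds base s i := fun i hi =>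
    Data.okChunk_sound hinv hk hwh hwr just24 96000 just24_ok h24 i (by rw [just24_len]; exact hi)
  have h26 : ∀ i < 104000, data.Holds base s i := fun i hi =>
    Data.okChunk_sound hinv hk hwh hwr just25 100000 just25_ok h25 i (by rw [just25_len]; exact hi)
  have h27 : ∀ i < 108000, data.Holds base s i := fun i hi =>
    Data.okChunk_sound hinv hk hwh hwr just26 104000 just26_ok h26 i (by rw [just26_len]; exact hi)
  have h28 : ∀ i < 112000, data.Holds base s i := fun i hi =>
    Data.okChunk_sound hinv hk hwh hwr just27 108000 just27_ok h27 i (by rw [just27_len]; exact hi)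
  have h29 : ∀ i < 116000, data.Holds base s i := fun i hi =>
    Data.okChunk_sound hinv hk hwh hwr just28 112000 just28_ok h28 i (by rw [just28_len]; exact hi)
  have h30 : ∀ i < 120000, data.Holds base s i := fun i hi =>
    Data.okChunk_sound hinv hk hwh hwr just29 116000 just29_ok h29 i (by rw [just29_len]; exact hi)
  have h31 : ∀ i < 124000, data.Holds base s i := fun i hi =>
    Data.okChunk_sound hinv hk hwh hwr just30 120000 just30_ok h30 i (by rw [just30_len]; exact hi)
  have h32 : ∀ i < 128000, data.Holds base s i := fun i hi =>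
    Data.okChunk_sound hinv hk hwh hwr just31 124000 just31_ok h31 i (by rw [just31_len]; exact hi)
  have h33 : ∀ i < 132000, data.Holds base s i := fun i hi =>
    Data.okChunk_sound hinv hk hwh hwr just32 128000 just32_ok h32 i (by rw [just32_len]; exact hi)
  have h34 : ∀ i < 136000, data.Holds base s i := fun i hi =>
    Data.okChunk_sound hinv hk hwh hwr just33 132000 just33_ok h33 i (by rw [just33_len]; exact hi)
  have h35 : ∀ i < 140000, data.Holds base s i := fun i hi =>
    Data.okChunk_sound hinv hk hwh hwr just34 136000 just34_ok h34 i (by rw [just34_len]; exact hi)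
  have h36 : ∀ i < 144000, data.Holds base s i := fun i hi =>
    Data.okChunk_sound hinv hk hwh hwr just35 140000 just35_ok h35 i (by rw [just35_len]; exact hi)
  have h37 : ∀ i < 144240, data.Holds base s i := fun i hi =>
    Data.okChunk_sound hinv hk hwh hwr just36 144000 just36_ok h36 i (by rw [just36_len]; exact hi)
  exact h37

theorem rows {Ω : Type} (base : Ω) (s : ℕ → Ω → Ω) (hinv : ∀ x v, s x (s x v) = v) (hk : ∀ v, s data.k v = v)
    (hwh : ∀ w < data.nh, run s (wordOf (data.words.get w)) base = base)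
    (hwr : ∀ w, data.nh ≤ w → w < data.nw → ∀ v, run s (wordOf (data.words.get w)) v = v) :
    ∀ d < 18468, RowOK data table base s d := by
  have hf := holds base s hinv hk hwh hwr
  have hk16 : data.k < 16 := show 4 < 16 by decide
  have h0 : ∀ d < 0, RowOK data table base s d := fun d hd => absurd hd (Nat.not_lt_zero d)
  have h1 : ∀ d < 2000, RowOK data table base s d := fun d hd =>
    okRows_sound hinv hk hk16 hf rows0 0 rows0_ok h0 d (by rw [rows0_len]; exact hd)
  have h2 : ∀ d < 4000, RowOK data table base s d := fun d hd =>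
    okRows_sound hinv hk hk16 hf rows1 2000 rows1_ok h1 d (by rw [rows1_len]; exact hd)
  have h3 : ∀ d < 6000, RowOK data table base s d := fun d hd =>
    okRows_sound hinv hk hk16 hf rows2 4000 rows2_ok h2 d (by rw [rows2_len]; exact hd)
  have h4 : ∀ d < 8000, RowOK data table base s d := fun d hd =>
    okRows_sound hinv hk hk16 hf rows3 6000 rows3_ok h3 d (by rw [rows3_len]; exact hd)
  have h5 : ∀ d < 10000, RowOK data table base s d := fun d hd =>
    okRows_sound hinv hk hk16 hf rows4 8000 rows4_ok h4 d (by rw [rows4_len]; exact hd)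
  have h6 : ∀ d < 12000, RowOK data table base s d := fun d hd =>
    okRows_sound hinv hk hk16 hf rows5 10000 rows5_ok h5 d (by rw [rows5_len]; exact hd)
  have h7 : ∀ d < 14000, RowOK data table base s d := fun d hd =>
    okRows_sound hinv hk hk16 hf rows6 12000 rows6_ok h6 d (by rw [rows6_len]; exact hd)
  have h8 : ∀ d < 16000, RowOK data table base s d := fun d hd =>
    okRows_sound hinv hk hk16 hf rows7 14000 rows7_ok h7 d (by rw [rows7_len]; exact hd)
  have h9 : ∀ d < 18000, RowOK data table base s d := fun d hd =>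
    okRows_sound hinv hk hk16 hf rows8 16000 rows8_ok h8 d (by rw [rows8_len]; exact hd)
  have h10 : ∀ d < 18468, RowOK data table base s d := fun d hd =>
    okRows_sound hinv hk hk16 hf rows9 18000 rows9_ok h9 d (by rw [rows9_len]; exact hd)
  exact h10

/-- The certified bound. -/
noncomputable def sheet : Sheet where
  D := data
  T := table
  rels := rels
  hw := hw
  rots := rots
  nh_le := show 3 ≤ 182 by decide
  hn := show 0 < 18468 by decide
  hrep := by decide +kernel
  words_ok := by decide +kernel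
  facts_ok := rows

end CfsgLib.CosetEnum.J3U
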